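import Mathlib

/-!
Generated data: words for three generators of a subgroup PGL(2,23) of the fourth Janko group.
-/

set_option autoImplicit false

namespace Cfsg.Lib.J4PGL

/-- The involution of a pair of generators, in the letters of the presentation. -/
def wordA : List ℕ := [0, 1, 0, 1, 0, 3, 1, 1, 0, 1, 0, 3, 1, 1, 0, 1, 0, 3, 1, 1, 0, 1, 0, 3, 1, 1, 0, 1, 0, 3, 1, 1, 0, 1, 0, 3, 1, 0]

/-- The element of order three of a pair of generators, in the letters of the presentation. -/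
def wordB : List ℕ := [0, 3, 1, 3, 2, 3, 2, 3, 2, 3, 1, 3, 1, 3, 2, 3, 0]

/-- The translation, in the pair. -/
def wordU : List ℕ := [1, 1, 0, 1, 0, 1, 0, 1, 1, 0, 1, 1, 0, 1, 0, 1, 0, 1, 0, 1, 1]

/-- The dilation, in the pair. -/
def wordT : List ℕ := [1, 1, 0, 1, 0, 1, 0, 1, 0, 1, 1, 0, 1, 0, 1, 0]

/-- The swap, in the pair. -/
def wordW : List ℕ := [0, 1, 0, 1, 0, 1, 1, 0, 1, 1, 0]

end Cfsg.Lib.J4PGL
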