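import Cfsg.Agent.J4PGL.Proj
import Cfsg.Agent.J4PGL.Data
import Cfsg.Agent.J4Cert.CentQ

/-!
A subgroup PGL(2,23) of the fourth Janko group.
-/

set_option autoImplicit false
set_option maxRecDepth 8000

namespace Cfsg.Lib.J4PGL

open Cfsg Cfsg.Lib.J4Cert
open Cfsg.Lib.CosetCert (wval)

/-- The pair of generators. -/
def pG : ℕ → Spor.J4
  | 0 => wval letG wordA
  | _ => wval letG wordB

/-- The matrices of the pair. -/
def pM : ℕ → List ℕ
  | 0 => wordM wordA
  | _ => wordM wordB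

/-- The matrix of a word in the pair. -/
def pairM : List ℕ → List ℕ
  | [] => J4Rep.idMat
  | l :: w => mB (pM l) (pairM w)

theorem pM_ok (l : ℕ) : MOK (pG l) (pM l) := by
  match l with
  | 0 => exact wordM_ok wordA
  | n + 1 => exact wordM_ok wordB

theorem pairM_ok : ∀ w : List ℕ, MOK (w.map pG).prod (pairM w)
  | [] => by simpa [pairM] using MOK.one
  | l :: w => by
    rw [List.map_cons, List.prod_cons]
    exact (pM_ok l).mul (pairM_ok w)

/-- The translation. -/
def ju : Spor.J4 := (wordU.map pG).prod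
/-- The dilation. -/
def jt : Spor.J4 := (wordT.map pG).prod
/-- The swap. -/
def jw : Spor.J4 := (wordW.map pG).prod

/-- The matrix of the translation. -/
def muM : List ℕ := pairM wordU
/-- The matrix of the dilation. -/
def mtM : List ℕ := pairM wordT
/-- The matrix of the swap. -/
def mwM : List ℕ := pairM wordW

theorem u_mok : MOK ju muM := pairM_ok wordU
theorem t_mok : MOK jt mtM := pairM_ok wordT
theorem w_mok : MOK jw mwM := pairM_ok wordW

theorem checks : leq (mPow muM 23) J4Rep.idMat = true ∧ leq (mPow mtM 22) J4Rep.idMat = true ∧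
    leq (mB mwM mwM) J4Rep.idMat = true ∧ leq (mB mtM muM) (mB (mPow muM 5) mtM) = true ∧
    leq (mB (mB mwM mtM) mwM) (mPow mtM 21) = true ∧
    leq (mB (mB mwM muM) mwM) (mB (mB muM (mPow mtM 11)) (mB mwM muM)) = true := by decide +kernel

theorem nontriv : leq muM J4Rep.idMat = false ∧ leq (mPow mtM 11) J4Rep.idMat = false ∧
    leq (mPow mtM 2) J4Rep.idMat = false := by decide +kernel

theorem leq_self : leq J4Rep.idMat J4Rep.idMat = true := by decide +kernel

attribute [local irreducible] mB mPow pairM wordU wordT wordW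

theorem eq_of_leq {g h : Spor.J4} {A B : List ℕ} (hg : MOK g A) (hh : MOK h B) (e : leq A B = true) : g = h :=
  hg.eq (leq_eq e ▸ hh)

theorem tri_j : Tri ju jt jw := by
  obtain ⟨h1, h2, h3, h4, h5, h6⟩ := checks
  have ht := eq_of_leq (t_mok.npow 22) MOK.one h2
  refine ⟨eq_of_leq (u_mok.npow 23) MOK.one h1, ht, eq_of_leq (w_mok.mul w_mok) MOK.one h3, ?_, ?_, ?_⟩
  · rw [mul_inv_eq_iff_eq_mul]
    exact eq_of_leq (t_mok.mul u_mok) ((u_mok.npow 5).mul t_mok) h4
  · rw [eq_of_leq ((w_mok.mul t_mok).mul w_mok) (t_mok.npow 21) h5]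
    exact eq_inv_of_mul_eq_one_left (by rw [← pow_succ]; exact ht)
  · exact eq_of_leq ((w_mok.mul u_mok).mul w_mok) ((u_mok.mul (t_mok.npow 11)).mul (w_mok.mul u_mok)) h6

theorem ne_one_of {g : Spor.J4} {A : List ℕ} (hg : MOK g A) (h : leq A J4Rep.idMat = false) : g ≠ 1 := fun e => by
  have h' : A = J4Rep.idMat := MOK.mat_eq hg MOK.one (by rw [e])
  rw [h', leq_self] at h
  exact Bool.noConfusion h

theorem order_t : orderOf jt = 22 := by
  refine orderOf_eq_of_pow_and_pow_div_prime (by norm_num) tri_j.ht fun p hp hdvd => ?_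
  obtain ⟨h1, h11, h2⟩ := nontriv
  have h22 : p ∣ 2 * 11 := by simpa using hdvd
  rcases (Nat.Prime.dvd_mul hp).1 h22 with h | h
  · rw [(Nat.prime_dvd_prime_iff_eq hp Nat.prime_two).1 h]
    exact ne_one_of (t_mok.npow 11) h11
  · rw [(Nat.prime_dvd_prime_iff_eq hp (by norm_num)).1 h]
    exact ne_one_of (t_mok.npow 2) h2

/-- The projective group is a subgroup of order 12144 that contains the three elements. -/
theorem exists_pgl_mem : ∃ K : Subgroup Spor.J4, ju ∈ K ∧ jt ∈ K ∧ jw ∈ K ∧ Nat.card K = 12144 ∧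
    Nonempty (K ≃* QQ) := by
  let u : QQ × Spor.J4 := (qu, ju)
  let t : QQ × Spor.J4 := (qd, jt)
  let w : QQ × Spor.J4 := (qw, jw)
  have hq := tri_q
  have hj := tri_j
  have hP : Tri u t w :=
    ⟨Prod.ext hq.hu hj.hu, Prod.ext hq.ht hj.ht, Prod.ext hq.hw hj.hw, Prod.ext hq.htu hj.htu,
      Prod.ext hq.hwt hj.hwt, Prod.ext hq.hwu hj.hwu⟩
  set P := Subgroup.closure ({u, t, w} : Set (QQ × Spor.J4))
  obtain ⟨hfin, hle⟩ := card_closure_le hP
  haveI := hfin
  let a : P →* QQ := (MonoidHom.fst QQ Spor.J4).comp P.subtype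
  let b : P →* Spor.J4 := (MonoidHom.snd QQ Spor.J4).comp P.subtype
  have hnf : ∀ p, nfFun u t w p ∈ P := by
    have hu : u ∈ P := Subgroup.subset_closure (by simp)
    have ht : t ∈ P := Subgroup.subset_closure (by simp)
    have hw : w ∈ P := Subgroup.subset_closure (by simp)
    rintro (⟨i, j⟩ | ⟨i, j, k⟩)
    · exact mul_mem (pow_mem hu _) (pow_mem ht _)
    · exact mul_mem (mul_mem (mul_mem (pow_mem hu _) (pow_mem ht _)) hw) (pow_mem hu _)
  have hfst : ∀ p, (nfFun u t w p).1 = nfFun qu qd qw p := by rintro (⟨i, j⟩ | ⟨i, j, k⟩) <;> rfl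
  have hsnd : ∀ p, (nfFun u t w p).2 = nfFun ju jt jw p := by rintro (⟨i, j⟩ | ⟨i, j, k⟩) <;> rfl
  have ha : Function.Surjective a := fun q => by
    obtain ⟨p, hp⟩ := nfFun_surjective q
    exact ⟨⟨_, hnf p⟩, (hfst p).trans hp⟩
  have hba : Function.Bijective a :=
    (Nat.bijective_iff_surjective_and_card _).2 ⟨ha, le_antisymm (hle.trans card_QQ_ge) (Nat.card_le_card_of_surjective _ ha)⟩
  have hb : Function.Injective b := by
    refine (injective_iff_map_eq_one b).2 fun x hx => ?_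
    obtain ⟨p, hp⟩ := nfFun_surjective (a x)
    obtain rfl : (⟨_, hnf p⟩ : P) = x := hba.1 ((hfst p).trans hp)
    have e : nfFun ju jt jw p = 1 := (hsnd p).symm.trans hx
    rw [nf_ne_one hj (ne_one_of u_mok nontriv.1) order_t p e] at hp ⊢
    exact Subtype.ext (Prod.ext (by simp [nfFun]) (by simp [nfFun]))
  refine ⟨b.range, ⟨⟨u, Subgroup.subset_closure (by simp)⟩, rfl⟩, ⟨⟨t, Subgroup.subset_closure (by simp)⟩, rfl⟩,
    ⟨⟨w, Subgroup.subset_closure (by simp)⟩, rfl⟩, ?_, ⟨(MonoidHom.ofInjective hb).symm.trans (MulEquiv.ofBijective a hba)⟩⟩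
  rw [Nat.card_congr (MonoidHom.ofInjective hb).symm.toEquiv]
  exact le_antisymm hle (card_QQ_ge.trans (Nat.card_le_card_of_surjective _ ha))

/-- The projective group is a subgroup. -/
theorem exists_pgl : ∃ K : Subgroup Spor.J4, Nonempty (K ≃* QQ) :=
  let ⟨K, _, _, _, _, h⟩ := exists_pgl_mem
  ⟨K, h⟩

end Cfsg.Lib.J4PGL
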