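import Cfsg.Agent.J4PGL.Tri

/-!
The projective general linear group in two dimensions over the field with 23 elements.
-/

set_option autoImplicit false

namespace Cfsg.Lib.J4PGL

open Matrix

instance fact23 : Fact (Nat.Prime 23) := ⟨by norm_num⟩

/-- The linear group. -/
abbrev GG := GL (Fin 2) (ZMod 23)

/-- The projective group. -/
abbrev QQ := GG ⧸ Subgroup.center GG

/-- An invertible matrix from a matrix and its inverse. -/
def mk2 (A B : Matrix (Fin 2) (Fin 2) (ZMod 23)) (h1 : A * B = 1) (h2 : B * A = 1) : GG := ⟨A, B, h1, h2⟩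

/-- The translation by one. -/
def gu : GG := mk2 !![1, 1; 0, 1] !![1, -1; 0, 1] (by decide +kernel) (by decide +kernel)

/-- The dilation by five. -/
def gd : GG := mk2 !![5, 0; 0, 1] !![14, 0; 0, 1] (by decide +kernel) (by decide +kernel)

/-- The swap. -/
def gw : GG := mk2 !![0, 1; 1, 0] !![0, 1; 1, 0] (by decide +kernel) (by decide +kernel)

/-- A scalar multiple gives the same projective element. -/
theorem mk_eq_of_smul (g h : GG) (c : ZMod 23) (e : (g : Matrix (Fin 2) (Fin 2) (ZMod 23)) = c • (h : Matrix _ _ _)) :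
    (QuotientGroup.mk g : QQ) = QuotientGroup.mk h := by
  rw [QuotientGroup.eq]
  refine Subgroup.mem_center_iff.2 fun x => ?_
  have hc : c • (g⁻¹ : GG).1 * (h : Matrix (Fin 2) (Fin 2) (ZMod 23)) = 1 := by
    rw [Matrix.smul_mul, ← Matrix.mul_smul, ← e, ← Units.val_mul, inv_mul_cancel, Units.val_one]
  have hc0 : c ≠ 0 := by
    rintro rfl
    rw [zero_smul, Matrix.zero_mul] at hc
    exact one_ne_zero hc.symm
  have hval : ((g⁻¹ * h : GG) : Matrix (Fin 2) (Fin 2) (ZMod 23)) = c⁻¹ • 1 := by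
    rw [← hc, Matrix.smul_mul, smul_smul, inv_mul_cancel₀ hc0, one_smul, Units.val_mul]
  exact Units.ext (by rw [Units.val_mul x, Units.val_mul (g⁻¹ * h) x, hval, Matrix.mul_smul, Matrix.smul_mul, one_mul, mul_one])

/-- The projective translation. -/
def qu : QQ := QuotientGroup.mk gu
/-- The projective dilation. -/
def qd : QQ := QuotientGroup.mk gd
/-- The projective swap. -/
def qw : QQ := QuotientGroup.mk gw

theorem tri_q : Tri qu qd qw := by
  refine ⟨?_, ?_, ?_, ?_, ?_, ?_⟩ <;> simp only [qu, qd, qw, ← QuotientGroup.mk_mul, ← QuotientGroup.mk_pow,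
    ← QuotientGroup.mk_inv, ← QuotientGroup.mk_one]
  · exact mk_eq_of_smul _ _ 1 (by decide +kernel)
  · exact mk_eq_of_smul _ _ 1 (by decide +kernel)
  · exact mk_eq_of_smul _ _ 1 (by decide +kernel)
  · exact mk_eq_of_smul _ _ 1 (by decide +kernel)
  · exact mk_eq_of_smul _ _ 5 (by decide +kernel)
  · exact mk_eq_of_smul _ _ 1 (by decide +kernel)

theorem gd_pow : ∀ x : ZMod 23, x ≠ 0 → ∃ j : Fin 22, (5 : ZMod 23) ^ j.val = x := by decide +kernel

theorem val_gu_pow : ∀ i : Fin 23, ((gu ^ i.val : GG) : Matrix (Fin 2) (Fin 2) (ZMod 23)) = !![1, (i.val : ZMod 23); 0, 1] := by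
  decide +kernel

theorem val_gd_pow : ∀ j : Fin 22, ((gd ^ j.val : GG) : Matrix (Fin 2) (Fin 2) (ZMod 23)) = !![(5 : ZMod 23) ^ j.val, 0; 0, 1] := by
  decide +kernel

theorem nfFun_surjective : Function.Surjective (nfFun qu qd qw) := by
  intro q
  obtain ⟨g, rfl⟩ := QuotientGroup.mk_surjective q
  set a := g.1 0 0
  set b := g.1 0 1
  set c := g.1 1 0
  set d := g.1 1 1
  have hg : (g : Matrix (Fin 2) (Fin 2) (ZMod 23)) = !![a, b; c, d] := Matrix.eta_fin_two _
  have hdet : a * d - b * c ≠ 0 := by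
    have h := (Matrix.isUnit_iff_isUnit_det _).1 g.isUnit
    rw [hg, Matrix.det_fin_two_of] at h
    exact h.ne_zero
  have hv : ∀ x : ZMod 23, ∃ i : Fin 23, (i.val : ZMod 23) = x := fun x =>
    ⟨⟨x.val, x.val_lt⟩, ZMod.natCast_zmod_val x⟩
  rcases eq_or_ne c 0 with hc | hc
  · rw [hc, mul_zero, sub_zero] at hdet
    have hd : d ≠ 0 := right_ne_zero_of_mul hdet
    obtain ⟨i, hi⟩ := hv (b / d)
    obtain ⟨j, hj⟩ := gd_pow (a / d) (div_ne_zero (left_ne_zero_of_mul hdet) hd)
    refine ⟨.inl (i, j), ?_⟩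
    simp only [nfFun, Sum.elim_inl, qu, qd, ← QuotientGroup.mk_pow, ← QuotientGroup.mk_mul]
    refine (mk_eq_of_smul _ _ d⁻¹ ?_)
    rw [Units.val_mul, val_gu_pow, val_gd_pow, hi, hj, hg, hc, Matrix.mul_fin_two, Matrix.smul_of, Matrix.smul_cons,
      Matrix.smul_cons, Matrix.smul_cons, Matrix.smul_empty]
    ext r s
    fin_cases r <;> fin_cases s <;> simp <;> field_simp
  · obtain ⟨i, hi⟩ := hv (a / c)
    obtain ⟨k, hk⟩ := hv (d / c)
    obtain ⟨j, hj⟩ := gd_pow ((b * c - a * d) / c ^ 2) (div_ne_zero (by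
      intro e; exact hdet (by linear_combination -e)) (pow_ne_zero 2 hc))
    refine ⟨.inr (i, j, k), ?_⟩
    simp only [nfFun, Sum.elim_inr, qu, qd, qw, ← QuotientGroup.mk_pow, ← QuotientGroup.mk_mul]
    refine (mk_eq_of_smul _ _ c⁻¹ ?_)
    rw [Units.val_mul, Units.val_mul, Units.val_mul, val_gu_pow, val_gd_pow, val_gu_pow, hi, hj, hk, hg,
      show (gw : Matrix (Fin 2) (Fin 2) (ZMod 23)) = !![0, 1; 1, 0] from rfl, Matrix.mul_fin_two, Matrix.mul_fin_two,
      Matrix.mul_fin_two, Matrix.smul_of, Matrix.smul_cons, Matrix.smul_cons, Matrix.smul_cons, Matrix.smul_empty]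
    ext r s
    fin_cases r <;> fin_cases s <;> simp <;> field_simp <;> ring

theorem card_center_le : Nat.card (Subgroup.center GG) ≤ 22 := by
  have h : ∀ z : Subgroup.center GG, (z.1 : Matrix (Fin 2) (Fin 2) (ZMod 23)) 0 0 ≠ 0 ∧
      (z.1 : Matrix (Fin 2) (Fin 2) (ZMod 23)) = !![z.1.1 0 0, 0; 0, z.1.1 0 0] := by
    intro z
    set A := (z.1 : Matrix (Fin 2) (Fin 2) (ZMod 23))
    have cu := congrArg Units.val (Subgroup.mem_center_iff.1 z.2 gu)
    have cw := congrArg Units.val (Subgroup.mem_center_iff.1 z.2 gw)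
    simp only [Units.val_mul] at cu cw
    have hA : A = !![A 0 0, A 0 1; A 1 0, A 1 1] := Matrix.eta_fin_two _
    have e1 := congrFun (congrFun cu 0) 0
    have e2 := congrFun (congrFun cw 0) 0
    have e3 := congrFun (congrFun cw 0) 1
    simp [gu, gw, mk2, A, Matrix.mul_apply, Fin.sum_univ_two] at e1 e2 e3
    have h10 : A 1 0 = 0 := e1
    have h01 : A 0 1 = 0 := e2.symm.trans h10
    have h11 : A 1 1 = A 0 0 := e3
    refine ⟨fun h0 => ?_, by conv_lhs => rw [hA, h10, h01, h11]⟩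
    have hd := ((Matrix.isUnit_iff_isUnit_det _).1 z.1.isUnit).ne_zero
    apply hd
    show A.det = 0
    rw [hA, Matrix.det_fin_two_of, h10, h01, h11, h0]
    ring
  have hinj : Function.Injective fun z : Subgroup.center GG => Units.mk0 _ (h z).1 := fun z z' e => by
    refine Subtype.ext (Units.ext ?_)
    have e0 : z.1.1 0 0 = z'.1.1 0 0 := congrArg Units.val e
    rw [(h z).2, (h z').2, e0]
  calc Nat.card (Subgroup.center GG) ≤ Nat.card (ZMod 23)ˣ := Nat.card_le_card_of_injective _ hinj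
    _ = 22 := by rw [Nat.card_eq_fintype_card]; decide +kernel

theorem card_QQ_ge : 12144 ≤ Nat.card QQ := by
  have h := Subgroup.card_eq_card_quotient_mul_card_subgroup (Subgroup.center GG)
  have hG : Nat.card GG = 267168 := by
    rw [Matrix.card_GL_field]
    simp [Fin.prod_univ_two, ZMod.card]
  rw [hG] at h
  by_contra hlt
  have h2 : Nat.card QQ * Nat.card (Subgroup.center GG) ≤ 12143 * 22 :=
    Nat.mul_le_mul (by omega) card_center_le
  exact absurd (h.le.trans h2) (by norm_num)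

end Cfsg.Lib.J4PGL
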