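import Mathlib

/-!
Three elements with the relations of the translation, the dilation and the swap of the projective line over the field
with 23 elements.
-/

set_option autoImplicit false

namespace Cfsg.Lib.J4PGL

/-- The relations. -/
structure Tri {H : Type*} [Group H] (u t w : H) : Prop where
  hu : u ^ 23 = 1
  ht : t ^ 22 = 1
  hw : w * w = 1
  htu : t * u * t⁻¹ = u ^ 5
  hwt : w * t * w = t⁻¹
  hwu : w * u * w = u * t ^ 11 * (w * u)

variable {H : Type*} [Group H] {u t w : H}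

/-- The products in normal form. -/
def nfS (u t w : H) : Set H :=
  {x | (∃ i j : ℕ, x = u ^ i * t ^ j) ∨ ∃ i j k : ℕ, x = u ^ i * t ^ j * w * u ^ k}

theorem pow_mod23 (h : Tri u t w) (i : ℕ) : u ^ i = u ^ (i % 23) := by
  conv_lhs => rw [← Nat.div_add_mod i 23, pow_add, pow_mul, h.hu, one_pow, one_mul]

theorem pow_mod22 (h : Tri u t w) (i : ℕ) : t ^ i = t ^ (i % 22) := by
  conv_lhs => rw [← Nat.div_add_mod i 22, pow_add, pow_mul, h.ht, one_pow, one_mul]

theorem tu_pow (h : Tri u t w) (i : ℕ) : t * u ^ i = u ^ (5 * i) * t := by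
  rw [pow_mul, ← h.htu, conj_pow, inv_mul_cancel_right]

theorem tju_pow (h : Tri u t w) : ∀ j i : ℕ, t ^ j * u ^ i = u ^ (5 ^ j * i) * t ^ j
  | 0, i => by simp
  | j + 1, i => by
    rw [pow_succ' t, mul_assoc, tju_pow h j, ← mul_assoc, tu_pow h, mul_assoc, pow_succ' 5, mul_assoc 5]

theorem utj (h : Tri u t w) (j i : ℕ) : u ^ i * t ^ j = t ^ j * u ^ (5 ^ (21 * j) * i) := by
  rw [tju_pow h, ← mul_assoc (5 ^ j), ← pow_add, show j + 21 * j = 22 * j by ring, pow_mod23 h (5 ^ (22 * j) * i)]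
  congr 1
  rw [pow_mod23 h i, Nat.mul_mod, Nat.pow_mod, pow_mul, Nat.pow_mod]
  norm_num

theorem wtj (h : Tri u t w) (j : ℕ) : w * t ^ j = t ^ (21 * j) * w := by
  have e : t ^ 21 = t⁻¹ := eq_inv_of_mul_eq_one_left (by rw [← pow_succ, h.ht])
  rw [pow_mul, e, ← h.hwt, show w * t * w = w * t * w⁻¹ by rw [inv_eq_of_mul_eq_one_left h.hw], conj_pow]
  rw [inv_mul_cancel_right]

theorem nf_left_u (h : Tri u t w) {x : H} (hx : x ∈ nfS u t w) : ∀ i : ℕ, u ^ i * x ∈ nfS u t w := by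
  intro a
  rcases hx with ⟨i, j, rfl⟩ | ⟨i, j, k, rfl⟩
  · exact Or.inl ⟨a + i, j, by rw [pow_add, mul_assoc]⟩
  · exact Or.inr ⟨a + i, j, k, by rw [pow_add]; group⟩

theorem nf_left_t (h : Tri u t w) {x : H} (hx : x ∈ nfS u t w) : ∀ a : ℕ, t ^ a * x ∈ nfS u t w := by
  intro a
  rcases hx with ⟨i, j, rfl⟩ | ⟨i, j, k, rfl⟩
  · exact Or.inl ⟨5 ^ a * i, a + j, by rw [← mul_assoc, tju_pow h, pow_add, mul_assoc]⟩
  · refine Or.inr ⟨5 ^ a * i, a + j, k, ?_⟩
    rw [← mul_assoc, ← mul_assoc, ← mul_assoc, tju_pow h, pow_add, mul_assoc _ (t ^ a) (t ^ j)]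

theorem nf_right_u (h : Tri u t w) {x : H} (hx : x ∈ nfS u t w) : ∀ a : ℕ, x * u ^ a ∈ nfS u t w := by
  intro a
  rcases hx with ⟨i, j, rfl⟩ | ⟨i, j, k, rfl⟩
  · exact Or.inl ⟨i + 5 ^ j * a, j, by rw [mul_assoc, tju_pow h, ← mul_assoc, pow_add]⟩
  · exact Or.inr ⟨i, j, k + a, by rw [pow_add, mul_assoc _ (u ^ k)]⟩

theorem nf_right_t (h : Tri u t w) {x : H} (hx : x ∈ nfS u t w) : ∀ a : ℕ, x * t ^ a ∈ nfS u t w := by
  intro a
  rcases hx with ⟨i, j, rfl⟩ | ⟨i, j, k, rfl⟩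
  · exact Or.inl ⟨i, j + a, by rw [pow_add, mul_assoc]⟩
  · refine Or.inr ⟨i, j + 21 * a, 5 ^ (21 * a) * k, ?_⟩
    calc u ^ i * t ^ j * w * u ^ k * t ^ a = u ^ i * t ^ j * w * (u ^ k * t ^ a) := mul_assoc _ _ _
      _ = u ^ i * t ^ j * (w * t ^ a) * u ^ (5 ^ (21 * a) * k) := by rw [utj h a k]; group
      _ = _ := by rw [wtj h, pow_add]; group

theorem residues : ∀ i : Fin 23, i.val ≠ 0 → ∃ k : Fin 22, 5 ^ k.val % 23 = i.val := by decide +kernel

theorem wuw_mem (h : Tri u t w) (i : ℕ) : w * u ^ i * w ∈ nfS u t w := by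
  rw [pow_mod23 h]
  rcases eq_or_ne (i % 23) 0 with e | e
  · rw [e, pow_zero, mul_one, h.hw]
    exact Or.inl ⟨0, 0, by simp⟩
  · obtain ⟨⟨k, hk⟩, hk'⟩ := residues ⟨i % 23, Nat.mod_lt _ (by norm_num)⟩ e
    have hk2 : 5 ^ k % 23 = i % 23 := hk'
    have e1 : t ^ k * u ^ 1 * (t ^ k)⁻¹ = u ^ (i % 23) := by
      rw [tju_pow h, mul_inv_cancel_right, pow_mod23 h, mul_one, hk2]
    have e2 : (t ^ k)⁻¹ * w = w * t ^ k := by
      rw [inv_mul_eq_iff_eq_mul, ← mul_assoc]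
      conv_rhs => rw [show t ^ k * w = w * (w * (t ^ k * w)) by rw [← mul_assoc, h.hw, one_mul]]
      rw [← mul_assoc w (t ^ k), wtj h, mul_assoc (t ^ (21 * k)), h.hw, mul_one, mul_assoc w, ← pow_add,
        pow_mod22 h, show (21 * k + k) % 22 = 0 by omega, pow_zero, mul_one]
    have e3 : w * u ^ (i % 23) * w = t ^ (21 * k) * (w * u * w) * t ^ k := by
      rw [← e1, ← mul_assoc, ← mul_assoc, wtj h, pow_one, mul_assoc _ (t ^ k)⁻¹, e2]
      group
    rw [e3, h.hwu, ← mul_assoc (u * t ^ 11)]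
    refine nf_right_t h (nf_left_t h ?_ _) _
    exact Or.inr ⟨1, 11, 1, by rw [pow_one]⟩

theorem nf_left_w (h : Tri u t w) {x : H} (hx : x ∈ nfS u t w) : w * x ∈ nfS u t w := by
  rcases hx with ⟨i, j, rfl⟩ | ⟨i, j, k, rfl⟩
  · rw [utj h, ← mul_assoc, wtj h]
    exact Or.inr ⟨0, 21 * j, 5 ^ (21 * j) * i, by rw [pow_zero, one_mul]⟩
  · rw [show w * (u ^ i * t ^ j * w * u ^ k) = w * u ^ i * (t ^ j * w) * u ^ k by group]
    refine nf_right_u h ?_ _
    have e : t ^ j * w = w * t ^ (21 * j) := by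
      rw [wtj h, pow_mod22 h (21 * (21 * j)), show 21 * (21 * j) % 22 = j % 22 by omega, ← pow_mod22 h]
    rw [e, ← mul_assoc]
    exact nf_right_t h (wuw_mem h i) _

theorem one_mem_nf : (1 : H) ∈ nfS u t w := Or.inl ⟨0, 0, by simp⟩

theorem closure_le_nf (h : Tri u t w) : ∀ x ∈ Subgroup.closure ({u, t, w} : Set H), x ∈ nfS u t w := by
  intro x hx
  induction hx using Subgroup.closure_induction_left with
  | one => exact one_mem_nf
  | mul_left a ha y _ hy =>
    rcases ha with rfl | rfl | rfl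
    · simpa using nf_left_u h hy 1
    · simpa using nf_left_t h hy 1
    · exact nf_left_w h hy
  | inv_mul_cancel a ha y _ hy =>
    rcases ha with rfl | rfl | rfl
    · rw [show a⁻¹ = a ^ 22 from inv_eq_of_mul_eq_one_left (by rw [← pow_succ, h.hu])]
      exact nf_left_u h hy 22
    · rw [show a⁻¹ = a ^ 21 from inv_eq_of_mul_eq_one_left (by rw [← pow_succ, h.ht])]
      exact nf_left_t h hy 21
    · rw [inv_eq_of_mul_eq_one_left h.hw]
      exact nf_left_w h hy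

/-- A normal form from bounded indices. -/
def nfFun (u t w : H) : (Fin 23 × Fin 22) ⊕ (Fin 23 × Fin 22 × Fin 23) → H :=
  Sum.elim (fun p => u ^ p.1.val * t ^ p.2.val) fun p => u ^ p.1.val * t ^ p.2.1.val * w * u ^ p.2.2.val

theorem card_closure_le (h : Tri u t w) :
    Finite (Subgroup.closure ({u, t, w} : Set H)) ∧ Nat.card (Subgroup.closure ({u, t, w} : Set H)) ≤ 12144 := by
  have hsub : (Subgroup.closure ({u, t, w} : Set H) : Set H) ⊆ Set.range (nfFun u t w) := by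
    intro x hx
    rcases closure_le_nf h x hx with ⟨i, j, rfl⟩ | ⟨i, j, k, rfl⟩
    · exact ⟨.inl (⟨i % 23, Nat.mod_lt _ (by norm_num)⟩, ⟨j % 22, Nat.mod_lt _ (by norm_num)⟩),
        by simp only [nfFun, Sum.elim_inl, ← pow_mod23 h, ← pow_mod22 h]⟩
    · exact ⟨.inr (⟨i % 23, Nat.mod_lt _ (by norm_num)⟩, ⟨j % 22, Nat.mod_lt _ (by norm_num)⟩,
          ⟨k % 23, Nat.mod_lt _ (by norm_num)⟩),
        by simp only [nfFun, Sum.elim_inr, ← pow_mod23 h, ← pow_mod22 h]⟩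
  have hf : (Set.range (nfFun u t w)).Finite := Set.finite_range _
  refine ⟨(hf.subset hsub).to_subtype, ?_⟩
  calc Nat.card (Subgroup.closure ({u, t, w} : Set H)) = (Subgroup.closure ({u, t, w} : Set H) : Set H).ncard :=
        Nat.card_coe_set_eq _
    _ ≤ (Set.range (nfFun u t w)).ncard := Set.ncard_le_ncard hsub hf
    _ ≤ Nat.card ((Fin 23 × Fin 22) ⊕ (Fin 23 × Fin 22 × Fin 23)) := by
        rw [← Nat.card_coe_set_eq]
        exact Finite.card_range_le _
    _ = 12144 := by simp [Nat.card_sum, Nat.card_prod]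

/-- The translation is not trivial and the dilation has full order: no normal form is trivial. -/
theorem nf_ne_one (h : Tri u t w) (hu1 : u ≠ 1) (ht1 : orderOf t = 22) (p : (Fin 23 × Fin 22) ⊕ (Fin 23 × Fin 22 × Fin 23))
    (hp : nfFun u t w p = 1) : p = .inl (0, 0) := by
  haveI : Fact (Nat.Prime 23) := ⟨by norm_num⟩
  have hou : orderOf u = 23 := orderOf_eq_prime h.hu hu1
  have hsep : ∀ i j : ℕ, u ^ i = t ^ j → u ^ i = 1 := fun i j e => by
    refine orderOf_eq_one_iff.1 (Nat.eq_one_of_dvd_coprimes (show Nat.Coprime 23 22 by norm_num) ?_ ?_)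
    · exact hou ▸ orderOf_pow_dvd _
    · rw [e]; exact ht1 ▸ orderOf_pow_dvd _
  rcases p with ⟨i, j⟩ | ⟨i, j, k⟩
  · simp only [nfFun, Sum.elim_inl] at hp
    have e : u ^ i.val = t ^ (21 * j.val) := by
      rw [eq_inv_of_mul_eq_one_left hp, inv_eq_of_mul_eq_one_left (b := t ^ j.val)]
      rw [← pow_add, pow_mod22 h, show (21 * j.val + j.val) % 22 = 0 by omega, pow_zero]
    have e1 := hsep _ _ e
    rw [e1, one_mul] at hp
    have di := orderOf_dvd_of_pow_eq_one e1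
    have dj := orderOf_dvd_of_pow_eq_one hp
    rw [hou] at di
    rw [ht1] at dj
    have hi := Nat.eq_zero_of_dvd_of_lt di i.isLt
    have hj := Nat.eq_zero_of_dvd_of_lt dj j.isLt
    simp only [Sum.inl.injEq, Prod.ext_iff, Fin.ext_iff]
    exact ⟨hi, hj⟩
  · exfalso
    simp only [nfFun, Sum.elim_inr] at hp
    set x := u ^ i.val * t ^ j.val with hx
    have ew : w = x⁻¹ * (u ^ k.val)⁻¹ := by
      rw [mul_assoc, mul_eq_one_iff_inv_eq] at hp
      rw [hp, mul_inv_cancel_right]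
    -- the swap normalises the dilations, so their square is a translation
    have eu : ∀ a : ℕ, t * u ^ a * t⁻¹ = u ^ (5 * a) := fun a => by rw [tu_pow h, mul_inv_cancel_right]
    have e1 : t⁻¹ = x⁻¹ * ((u ^ k.val)⁻¹ * t * u ^ k.val) * x := by
      conv_lhs => rw [← h.hwt]
      rw [show w * t * w = w * t * w⁻¹ by rw [inv_eq_of_mul_eq_one_left h.hw], ew]
      group
    have e2 : (u ^ k.val)⁻¹ * t * u ^ k.val = u ^ (22 * k.val + 5 * k.val) * t := by
      rw [mul_assoc, tu_pow h, ← mul_assoc, pow_add]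
      congr 2
      refine inv_eq_of_mul_eq_one_left ?_
      rw [← pow_add, pow_mod23 h, show (22 * k.val + k.val) % 23 = 0 by omega, pow_zero]
    set b := 22 * k.val + 5 * k.val
    have e4 : u ^ i.val * t ^ j.val * t⁻¹ * (t ^ j.val)⁻¹ = u ^ b * t * u ^ i.val := by
      rw [e1, e2, hx]; group
    have e4' : u ^ i.val * t⁻¹ = u ^ (b + 5 * i.val) * t := by
      rw [pow_add, mul_assoc (u ^ b), ← tu_pow h, ← mul_assoc, ← e4]; group
    have e5 : (t ^ 2)⁻¹ = u ^ (22 * i.val + b + 5 * i.val) := by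
      have e : u ^ (22 * i.val) = (u ^ i.val)⁻¹ := eq_inv_of_mul_eq_one_left (by
        rw [← pow_add, pow_mod23 h, show (22 * i.val + i.val) % 23 = 0 by omega, pow_zero])
      rw [add_assoc, pow_add, e]
      calc (t ^ 2)⁻¹ = (u ^ i.val)⁻¹ * (u ^ i.val * t⁻¹) * t⁻¹ := by group
        _ = _ := by rw [e4']; group
    have e6 : (t ^ 2)⁻¹ = t ^ 20 := inv_eq_of_mul_eq_one_left (by rw [← pow_add, h.ht])
    rw [e6] at e5
    have := hsep _ _ e5.symm
    rw [this] at e5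
    have d5 := orderOf_dvd_of_pow_eq_one e5
    rw [ht1] at d5
    norm_num at d5

end Cfsg.Lib.J4PGL
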